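import Cfsg.Agent.Lib.TC.D.SuzU43.Tab
import Cfsg.Agent.Lib.TC.D.SuzU43.C0
import Cfsg.Agent.Lib.TC.D.SuzU43.C1
import Cfsg.Agent.Lib.TC.D.SuzU43.C2
import Cfsg.Agent.Lib.TC.D.SuzU43.C3
import Cfsg.Agent.Lib.TC.D.SuzU43.C4
import Cfsg.Agent.Lib.TC.D.SuzU43.C5
import Cfsg.Agent.Lib.TC.D.SuzU43.C6
import Cfsg.Agent.Lib.TC.D.SuzU43.P0
import Cfsg.Agent.Lib.TC.D.SuzU43.P1
import Cfsg.Agent.Lib.TC.D.SuzU43.P2
import Cfsg.Agent.Lib.TC.D.SuzU43.P3
import Cfsg.Agent.Lib.TC.D.SuzU43.P4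
import Cfsg.Agent.Lib.TC.D.SuzU43.P5
import Cfsg.Agent.Lib.TC.D.SuzU43.P6
import Cfsg.Agent.Lib.TC.D.SuzU43.P7
import Cfsg.Agent.Lib.TC.D.SuzU43.P8
import Cfsg.Agent.Lib.TC.D.SuzU43.P9
import Cfsg.Agent.Lib.TC.D.SuzU43.P10
import Cfsg.Agent.Lib.TC.D.SuzU43.P11
import Cfsg.Agent.Lib.TC.D.SuzU43.P12
import Cfsg.Agent.Lib.TC.D.SuzU43.P13
import Cfsg.Agent.Lib.TC.D.SuzU43.P14
import Cfsg.Agent.Lib.TC.D.SuzU43.P15
import Cfsg.Agent.Lib.TC.D.SuzU43.P16
import Cfsg.Agent.Lib.TC.D.SuzU43.P17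
import Cfsg.Agent.Lib.TC.D.SuzU43.P18
import Cfsg.Agent.Lib.TC.D.SuzU43.P19
import Cfsg.Agent.Lib.TC.D.SuzU43.P20
import Cfsg.Agent.Lib.TC.D.SuzU43.P21
import Cfsg.Agent.Lib.TC.D.SuzU43.P22
import Cfsg.Agent.Lib.TC.D.SuzU43.P23
import Cfsg.Agent.Lib.TC.D.SuzU43.P24
import Cfsg.Agent.Lib.TC.D.SuzU43.P25

namespace Cfsg.Agent.Lib.TC.D.SuzU43.Ok

open Cfsg.Agent.Lib.TC.Core Cfsg.Agent.Lib.TC.Enc Cfsg.Agent.Lib.TC.Pres Cfsg.Agent.Lib.TC.Perm Cfsg.Agent.Lib.TC.Main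

set_option maxRecDepth 100000

open Cfsg.Agent.Lib.TC.D.SuzU43.Tab Cfsg.Agent.Lib.TC.G.Suz

theorem allC0 : cert.chkRange 0 5901 = true := Cfsg.Agent.Lib.TC.D.SuzU43.C0.ok
theorem allC1 : cert.chkRange 0 11375 = true := Cert.chkRange_join (lo := 0) (a := 5901) (b := 5474) _ allC0 Cfsg.Agent.Lib.TC.D.SuzU43.C1.ok
theorem allC2 : cert.chkRange 0 16393 = true := Cert.chkRange_join (lo := 0) (a := 11375) (b := 5018) _ allC1 Cfsg.Agent.Lib.TC.D.SuzU43.C2.ok
theorem allC3 : cert.chkRange 0 21011 = true := Cert.chkRange_join (lo := 0) (a := 16393) (b := 4618) _ allC2 Cfsg.Agent.Lib.TC.D.SuzU43.C3.ok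
theorem allC4 : cert.chkRange 0 25612 = true := Cert.chkRange_join (lo := 0) (a := 21011) (b := 4601) _ allC3 Cfsg.Agent.Lib.TC.D.SuzU43.C4.ok
theorem allC5 : cert.chkRange 0 30061 = true := Cert.chkRange_join (lo := 0) (a := 25612) (b := 4449) _ allC4 Cfsg.Agent.Lib.TC.D.SuzU43.C5.ok
theorem allC6 : cert.chkRange 0 30209 = true := Cert.chkRange_join (lo := 0) (a := 30061) (b := 148) _ allC5 Cfsg.Agent.Lib.TC.D.SuzU43.C6.ok
theorem allP0 : pt.chkRange rels 0 899 = true := Cfsg.Agent.Lib.TC.D.SuzU43.P0.ok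
theorem allP1 : pt.chkRange rels 0 1798 = true := PT.chkRange_join (lo := 0) (a := 899) (b := 899) _ allP0 Cfsg.Agent.Lib.TC.D.SuzU43.P1.ok
theorem allP2 : pt.chkRange rels 0 2697 = true := PT.chkRange_join (lo := 0) (a := 1798) (b := 899) _ allP1 Cfsg.Agent.Lib.TC.D.SuzU43.P2.ok
theorem allP3 : pt.chkRange rels 0 3596 = true := PT.chkRange_join (lo := 0) (a := 2697) (b := 899) _ allP2 Cfsg.Agent.Lib.TC.D.SuzU43.P3.ok
theorem allP4 : pt.chkRange rels 0 4495 = true := PT.chkRange_join (lo := 0) (a := 3596) (b := 899) _ allP3 Cfsg.Agent.Lib.TC.D.SuzU43.P4.ok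
theorem allP5 : pt.chkRange rels 0 5394 = true := PT.chkRange_join (lo := 0) (a := 4495) (b := 899) _ allP4 Cfsg.Agent.Lib.TC.D.SuzU43.P5.ok
theorem allP6 : pt.chkRange rels 0 6293 = true := PT.chkRange_join (lo := 0) (a := 5394) (b := 899) _ allP5 Cfsg.Agent.Lib.TC.D.SuzU43.P6.ok
theorem allP7 : pt.chkRange rels 0 7192 = true := PT.chkRange_join (lo := 0) (a := 6293) (b := 899) _ allP6 Cfsg.Agent.Lib.TC.D.SuzU43.P7.ok
theorem allP8 : pt.chkRange rels 0 8091 = true := PT.chkRange_join (lo := 0) (a := 7192) (b := 899) _ allP7 Cfsg.Agent.Lib.TC.D.SuzU43.P8.ok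
theorem allP9 : pt.chkRange rels 0 8990 = true := PT.chkRange_join (lo := 0) (a := 8091) (b := 899) _ allP8 Cfsg.Agent.Lib.TC.D.SuzU43.P9.ok
theorem allP10 : pt.chkRange rels 0 9889 = true := PT.chkRange_join (lo := 0) (a := 8990) (b := 899) _ allP9 Cfsg.Agent.Lib.TC.D.SuzU43.P10.ok
theorem allP11 : pt.chkRange rels 0 10788 = true := PT.chkRange_join (lo := 0) (a := 9889) (b := 899) _ allP10 Cfsg.Agent.Lib.TC.D.SuzU43.P11.ok
theorem allP12 : pt.chkRange rels 0 11687 = true := PT.chkRange_join (lo := 0) (a := 10788) (b := 899) _ allP11 Cfsg.Agent.Lib.TC.D.SuzU43.P12.ok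
theorem allP13 : pt.chkRange rels 0 12586 = true := PT.chkRange_join (lo := 0) (a := 11687) (b := 899) _ allP12 Cfsg.Agent.Lib.TC.D.SuzU43.P13.ok
theorem allP14 : pt.chkRange rels 0 13485 = true := PT.chkRange_join (lo := 0) (a := 12586) (b := 899) _ allP13 Cfsg.Agent.Lib.TC.D.SuzU43.P14.ok
theorem allP15 : pt.chkRange rels 0 14384 = true := PT.chkRange_join (lo := 0) (a := 13485) (b := 899) _ allP14 Cfsg.Agent.Lib.TC.D.SuzU43.P15.ok
theorem allP16 : pt.chkRange rels 0 15283 = true := PT.chkRange_join (lo := 0) (a := 14384) (b := 899) _ allP15 Cfsg.Agent.Lib.TC.D.SuzU43.P16.ok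
theorem allP17 : pt.chkRange rels 0 16182 = true := PT.chkRange_join (lo := 0) (a := 15283) (b := 899) _ allP16 Cfsg.Agent.Lib.TC.D.SuzU43.P17.ok
theorem allP18 : pt.chkRange rels 0 17081 = true := PT.chkRange_join (lo := 0) (a := 16182) (b := 899) _ allP17 Cfsg.Agent.Lib.TC.D.SuzU43.P18.ok
theorem allP19 : pt.chkRange rels 0 17980 = true := PT.chkRange_join (lo := 0) (a := 17081) (b := 899) _ allP18 Cfsg.Agent.Lib.TC.D.SuzU43.P19.ok
theorem allP20 : pt.chkRange rels 0 18879 = true := PT.chkRange_join (lo := 0) (a := 17980) (b := 899) _ allP19 Cfsg.Agent.Lib.TC.D.SuzU43.P20.ok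
theorem allP21 : pt.chkRange rels 0 19778 = true := PT.chkRange_join (lo := 0) (a := 18879) (b := 899) _ allP20 Cfsg.Agent.Lib.TC.D.SuzU43.P21.ok
theorem allP22 : pt.chkRange rels 0 20677 = true := PT.chkRange_join (lo := 0) (a := 19778) (b := 899) _ allP21 Cfsg.Agent.Lib.TC.D.SuzU43.P22.ok
theorem allP23 : pt.chkRange rels 0 21576 = true := PT.chkRange_join (lo := 0) (a := 20677) (b := 899) _ allP22 Cfsg.Agent.Lib.TC.D.SuzU43.P23.ok
theorem allP24 : pt.chkRange rels 0 22475 = true := PT.chkRange_join (lo := 0) (a := 21576) (b := 899) _ allP23 Cfsg.Agent.Lib.TC.D.SuzU43.P24.ok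
theorem allP25 : pt.chkRange rels 0 22880 = true := PT.chkRange_join (lo := 0) (a := 22475) (b := 405) _ allP24 Cfsg.Agent.Lib.TC.D.SuzU43.P25.ok

theorem hFinal : cert.chkFinal 0 30209 = true := by decide +kernel

theorem h0 : cert.eLvl (cert.par (cert.find cert.MAX cert.D 0)) = cert.MAX := by decide +kernel

theorem hcount : cert.countRoots cert.N = pt.n := by
  rw [countRoots_eq_acc]
  decide +kernel

theorem hgood : pt.Good rels where
  hpos := by decide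
  hinv := by decide +kernel
  hrels := by decide +kernel
  hchk := allP25

theorem hchecked : Checked cert where
  hN := by decide
  hC := allC6
  hF := hFinal
  h0 := h0

theorem hsubs : subW.map K.word = subs := by decide +kernel

theorem ok : Ok K Rel cert pt rels subs witT.get where
  hK := valid
  hCk := by decide
  hPk := by decide
  hPinv := fun _ => rfl
  hR := hR
  hrels := hrels
  hG := hgood
  hsubk := by decide +kernel
  hsub0 := by decide +kernel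
  h1 := by decide +kernel
  h2 := by decide +kernel
  hC := hchecked
  hcount := hcount

end Cfsg.Agent.Lib.TC.D.SuzU43.Ok
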